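import Mathlib
import Cfsg.Agent.EqLemmas

/-!
# Self-dual representations in coprime characteristic

`dec_of_nd`: an invariant subspace with a nondegenerate invariant form is the sum of a subspace with a nondegenerate
alternating and one with a nondegenerate symmetric invariant form, the action on the latter being trivial in
characteristic two.
-/

set_option autoImplicit false

namespace Cfsg.Agent.SelfDualSplit

open Module

variable {F : Type*} [Field F] {G : Type*} [Group G] {V : Type*} [AddCommGroup V] [Module F V]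

/-- Invariance of a subspace. -/
def Inv (ρ : Representation F G V) (L : Submodule F V) : Prop := ∀ g : G, ∀ x ∈ L, ρ g x ∈ L

/-- A minimal nonzero invariant subspace. -/
def Irr (ρ : Representation F G V) (X : Submodule F V) : Prop :=
  X ≠ ⊥ ∧ Inv ρ X ∧ ∀ L : Submodule F V, L ≤ X → Inv ρ L → L = ⊥ ∨ L = X

/-- Right nondegeneracy on a subspace. -/
def ND (B : LinearMap.BilinForm F V) (Z : Submodule F V) : Prop :=
  ∀ z ∈ Z, (∀ y ∈ Z, B y z = 0) → z = 0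

/-- The right orthogonal. -/
def rperp (B : LinearMap.BilinForm F V) (X : Submodule F V) : Submodule F V where
  carrier := {v | ∀ x ∈ X, B x v = 0}
  zero_mem' := fun x _ => map_zero _
  add_mem' := fun ha hb x hx => by rw [map_add, ha x hx, hb x hx, add_zero]
  smul_mem' := fun c v hv x hx => by rw [map_smul, hv x hx, smul_zero]

theorem mem_rperp {B : LinearMap.BilinForm F V} {X : Submodule F V} {v : V} :
    v ∈ rperp B X ↔ ∀ x ∈ X, B x v = 0 := Iff.rfl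

/-- The decomposition. -/
def Dec (ρ : Representation F G V) (Z : Submodule F V) : Prop :=
  ∃ U W : Submodule F V, U ⊔ W = Z ∧ Disjoint U W ∧ Inv ρ U ∧ Inv ρ W ∧
    (∃ A : LinearMap.BilinForm F V, (∀ x, A x x = 0) ∧
      (∀ g, ∀ x ∈ U, ∀ y ∈ U, A (ρ g x) (ρ g y) = A x y) ∧ (∀ x ∈ U, (∀ y ∈ U, A x y = 0) → x = 0)) ∧
    (∃ S : LinearMap.BilinForm F V, (∀ x y, S x y = S y x) ∧
      (∀ g, ∀ x ∈ W, ∀ y ∈ W, S (ρ g x) (ρ g y) = S x y) ∧ (∀ x ∈ W, (∀ y ∈ W, S x y = 0) → x = 0)) ∧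
    (ringChar F = 2 → ∀ g, ∀ w ∈ W, ρ g w = w)

variable {ρ : Representation F G V}

theorem apply_inv_cancel (g : G) (x : V) : ρ g (ρ g⁻¹ x) = x := by
  rw [← Module.End.mul_apply, ← map_mul, mul_inv_cancel, map_one, Module.End.one_apply]

theorem apply_cancel_inv (g : G) (x : V) : ρ g⁻¹ (ρ g x) = x := by
  rw [← Module.End.mul_apply, ← map_mul, inv_mul_cancel, map_one, Module.End.one_apply]

theorem inv_bot : Inv ρ ⊥ := fun g x hx => by
  rw [(Submodule.mem_bot F).1 hx, map_zero]; exact zero_mem _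

theorem inv_inf {L K : Submodule F V} (hL : Inv ρ L) (hK : Inv ρ K) : Inv ρ (L ⊓ K) :=
  fun g x hx => ⟨hL g x hx.1, hK g x hx.2⟩

theorem inv_sup {L K : Submodule F V} (hL : Inv ρ L) (hK : Inv ρ K) : Inv ρ (L ⊔ K) := by
  intro g x hx
  obtain ⟨a, ha, b, hb, rfl⟩ := Submodule.mem_sup.1 hx
  rw [map_add]
  exact Submodule.mem_sup.2 ⟨_, hL g a ha, _, hK g b hb, rfl⟩

theorem inv_rperp {B : LinearMap.BilinForm F V} (hB : ∀ g x y, B (ρ g x) (ρ g y) = B x y)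
    {X : Submodule F V} (hX : Inv ρ X) : Inv ρ (rperp B X) := fun g v hv x hx => by
  rw [← apply_inv_cancel (ρ := ρ) g x, hB]
  exact hv _ (hX _ _ hx)

theorem inv_flip {B : LinearMap.BilinForm F V} (hB : ∀ g x y, B (ρ g x) (ρ g y) = B x y) :
    ∀ g x y, B.flip (ρ g x) (ρ g y) = B.flip x y := fun g x y => hB g y x

theorem exists_inv_compl [Finite G] (hG : (Nat.card G : F) ≠ 0) {L : Submodule F V} (hL : Inv ρ L) :
    ∃ K : Submodule F V, Inv ρ K ∧ IsCompl L K := by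
  classical
  haveI := Fintype.ofFinite G
  obtain ⟨K₀, hK₀⟩ := L.exists_isCompl
  let π₀ : V →ₗ[F] V := L.subtype.comp (L.projectionOnto K₀ hK₀)
  have hπmem : ∀ v, π₀ v ∈ L := fun v => (L.projectionOnto K₀ hK₀ v).2
  have hπid : ∀ v ∈ L, π₀ v = v := fun v hv =>
    congrArg Subtype.val (Submodule.projectionOnto_apply_left hK₀ ⟨v, hv⟩)
  let S : V →ₗ[F] V := ∑ g : G, (ρ g).comp (π₀.comp (ρ g⁻¹))
  have hS : ∀ v, S v = ∑ g : G, ρ g (π₀ (ρ g⁻¹ v)) := fun v => by simp [S]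
  have hSmem : ∀ v, S v ∈ L := fun v => by
    rw [hS]; exact sum_mem fun g _ => hL g _ (hπmem _)
  have hSid : ∀ v ∈ L, S v = (Nat.card G : F) • v := fun v hv => by
    rw [hS, Finset.sum_congr rfl fun g _ => by rw [hπid _ (hL _ v hv), apply_inv_cancel],
      Finset.sum_const, Finset.card_univ, Nat.card_eq_fintype_card, Nat.cast_smul_eq_nsmul]
  refine ⟨LinearMap.ker S, fun h v hv => ?_, ?_, ?_⟩
  · rw [LinearMap.mem_ker, hS] at hv ⊢
    have h1 : ρ h (∑ g : G, ρ g (π₀ (ρ g⁻¹ v))) = 0 := by rw [hv, map_zero]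
    rw [← h1, map_sum]
    refine (Fintype.sum_equiv (Equiv.mulLeft h) _ _ fun g => ?_).symm
    simp only [Equiv.coe_mulLeft, mul_inv_rev, map_mul, Module.End.mul_apply, apply_cancel_inv]
  · rw [Submodule.disjoint_def]
    intro v hv hk
    have h1 := hSid v hv
    rw [LinearMap.mem_ker.1 hk] at h1
    exact (smul_eq_zero.1 h1.symm).resolve_left hG
  · rw [codisjoint_iff, eq_top_iff]
    intro v _
    refine Submodule.mem_sup.2 ⟨(Nat.card G : F)⁻¹ • S v, L.smul_mem _ (hSmem v),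
      v - (Nat.card G : F)⁻¹ • S v, ?_, add_sub_cancel _ _⟩
    rw [LinearMap.mem_ker, map_sub, map_smul, hSid _ (hSmem v), smul_smul, inv_mul_cancel₀ hG, one_smul, sub_self]

variable [FiniteDimensional F V]

theorem exists_irr_le : ∀ (n : ℕ) (L : Submodule F V), finrank F L = n → L ≠ ⊥ → Inv ρ L →
    ∃ X, X ≤ L ∧ Irr ρ X := by
  intro n
  induction n using Nat.strong_induction_on with
  | _ n ih =>
    intro L hn hL0 hL
    by_cases h : ∀ K : Submodule F V, K ≤ L → Inv ρ K → K = ⊥ ∨ K = L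
    · exact ⟨L, le_rfl, hL0, hL, h⟩
    push Not at h
    obtain ⟨K, hKL, hK, hK0, hKne⟩ := h
    obtain ⟨X, hX, hXi⟩ := ih _ (hn ▸ Submodule.finrank_lt_finrank_of_lt (lt_of_le_of_ne hKL hKne)) K rfl hK0 hK
    exact ⟨X, hX.trans hKL, hXi⟩

theorem nd_flip {B : LinearMap.BilinForm F V} {Z : Submodule F V} (h : ND B Z) : ND B.flip Z := by
  intro z hz hz0
  let Φ : Z →ₗ[F] Module.Dual F Z := (B.flip.compl₁₂ Z.subtype Z.subtype)
  have hinj : Function.Injective Φ := by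
    rw [← LinearMap.ker_eq_bot, eq_bot_iff]
    intro a ha
    refine (Submodule.mem_bot F).2 (Subtype.ext (h a a.2 fun y hy => ?_))
    exact LinearMap.congr_fun (LinearMap.mem_ker.1 ha) ⟨y, hy⟩
  have hsurj := (LinearMap.injective_iff_surjective_of_finrank_eq_finrank
    (Subspace.dual_finrank_eq (K := F) (V := Z)).symm).1 hinj
  by_contra hne
  obtain ⟨f, hf⟩ : ∃ f : Module.Dual F Z, f ⟨z, hz⟩ ≠ 0 := by
    by_contra h'
    push Not at h'
    exact hne (congrArg Subtype.val ((Module.forall_dual_apply_eq_zero_iff F (⟨z, hz⟩ : Z)).1 h'))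
  obtain ⟨a, rfl⟩ := hsurj f
  exact hf (hz0 a a.2)

theorem isCompl_rperp {B : LinearMap.BilinForm F V} {X : Submodule F V} (h : ND B X) :
    IsCompl X (rperp B X) := by
  have hdisj : Disjoint X (rperp B X) := Submodule.disjoint_def.2 fun v hv hv' => h v hv hv'
  refine ⟨hdisj, ?_⟩
  let ψ : V →ₗ[F] Module.Dual F X := B.flip.compl₁₂ LinearMap.id X.subtype
  have hker : LinearMap.ker ψ ≤ rperp B X := fun v hv x hx =>
    LinearMap.congr_fun (LinearMap.mem_ker.1 hv) ⟨x, hx⟩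
  have h1 := LinearMap.finrank_range_add_finrank_ker ψ
  have h2 := Submodule.finrank_le (LinearMap.range ψ)
  rw [Subspace.dual_finrank_eq] at h2
  have h3 := Submodule.finrank_mono hker
  have h4 := Submodule.finrank_sup_add_finrank_inf_eq X (rperp B X)
  rw [hdisj.eq_bot, finrank_bot, add_zero] at h4
  rw [codisjoint_iff]
  refine Submodule.eq_top_of_finrank_eq (le_antisymm (Submodule.finrank_le _) ?_)
  omega

theorem combine {Z₁ Z₂ : Submodule F V} (h₁ : Dec ρ Z₁) (h₂ : Dec ρ Z₂) (π : V →ₗ[F] V)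
    (hπ₁ : ∀ x ∈ Z₁, π x = x) (hπ₂ : ∀ x ∈ Z₂, π x = 0) : Dec ρ (Z₁ ⊔ Z₂) := by
  obtain ⟨U₁, W₁, hs₁, hd₁, hU₁, hW₁, ⟨A₁, hA₁, hA₁i, hA₁n⟩, ⟨S₁, hS₁, hS₁i, hS₁n⟩, ht₁⟩ := h₁
  obtain ⟨U₂, W₂, hs₂, hd₂, hU₂, hW₂, ⟨A₂, hA₂, hA₂i, hA₂n⟩, ⟨S₂, hS₂, hS₂i, hS₂n⟩, ht₂⟩ := h₂
  have u1 : U₁ ≤ Z₁ := hs₁ ▸ le_sup_left
  have w1 : W₁ ≤ Z₁ := hs₁ ▸ le_sup_right
  have u2 : U₂ ≤ Z₂ := hs₂ ▸ le_sup_left
  have w2 : W₂ ≤ Z₂ := hs₂ ▸ le_sup_right
  let π' : V →ₗ[F] V := LinearMap.id - π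
  have e1 : ∀ {x y : V}, x ∈ Z₁ → y ∈ Z₂ → π (x + y) = x ∧ π' (x + y) = y := by
    intro x y hx hy
    simp [π', hπ₁ x hx, hπ₂ y hy]
  refine ⟨U₁ ⊔ U₂, W₁ ⊔ W₂, by rw [sup_sup_sup_comm, hs₁, hs₂], ?_, inv_sup hU₁ hU₂, inv_sup hW₁ hW₂,
    ⟨A₁.compl₁₂ π π + A₂.compl₁₂ π' π', ?_, ?_, ?_⟩, ⟨S₁.compl₁₂ π π + S₂.compl₁₂ π' π', ?_, ?_, ?_⟩, ?_⟩
  · rw [Submodule.disjoint_def]
    intro v hv hv'
    obtain ⟨a, ha, b, hb, rfl⟩ := Submodule.mem_sup.1 hv
    obtain ⟨c, hc, d, hd, hcd⟩ := Submodule.mem_sup.1 hv'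
    have h := e1 (u1 ha) (u2 hb)
    have h' := e1 (w1 hc) (w2 hd)
    rw [hcd, h.1, h.2] at h'
    rw [Submodule.disjoint_def.1 hd₁ a ha (h'.1 ▸ hc), Submodule.disjoint_def.1 hd₂ b hb (h'.2 ▸ hd), add_zero]
  · intro x; simp [hA₁, hA₂]
  · intro g x hx y hy
    obtain ⟨a, ha, b, hb, rfl⟩ := Submodule.mem_sup.1 hx
    obtain ⟨c, hc, d, hd, rfl⟩ := Submodule.mem_sup.1 hy
    simp only [LinearMap.add_apply, LinearMap.compl₁₂_apply, (e1 (u1 ha) (u2 hb)).1, (e1 (u1 ha) (u2 hb)).2,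
      (e1 (u1 hc) (u2 hd)).1, (e1 (u1 hc) (u2 hd)).2, map_add (ρ g),
      (e1 (u1 (hU₁ g a ha)) (u2 (hU₂ g b hb))).1, (e1 (u1 (hU₁ g a ha)) (u2 (hU₂ g b hb))).2,
      (e1 (u1 (hU₁ g c hc)) (u2 (hU₂ g d hd))).1, (e1 (u1 (hU₁ g c hc)) (u2 (hU₂ g d hd))).2,
      hA₁i g a ha c hc, hA₂i g b hb d hd]
  · intro x hx h
    obtain ⟨a, ha, b, hb, rfl⟩ := Submodule.mem_sup.1 hx
    have hval : ∀ c ∈ U₁, ∀ d ∈ U₂, A₁ a c + A₂ b d = 0 := fun c hc d hd => by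
      have := h _ (Submodule.mem_sup.2 ⟨c, hc, d, hd, rfl⟩)
      simpa only [LinearMap.add_apply, LinearMap.compl₁₂_apply, (e1 (u1 ha) (u2 hb)).1, (e1 (u1 ha) (u2 hb)).2,
        (e1 (u1 hc) (u2 hd)).1, (e1 (u1 hc) (u2 hd)).2] using this
    rw [hA₁n a ha fun c hc => by simpa using hval c hc 0 (zero_mem _),
      hA₂n b hb fun d hd => by simpa using hval 0 (zero_mem _) d hd, add_zero]
  · intro x y
    simp only [LinearMap.add_apply, LinearMap.compl₁₂_apply]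
    rw [hS₁, hS₂]
  · intro g x hx y hy
    obtain ⟨a, ha, b, hb, rfl⟩ := Submodule.mem_sup.1 hx
    obtain ⟨c, hc, d, hd, rfl⟩ := Submodule.mem_sup.1 hy
    simp only [LinearMap.add_apply, LinearMap.compl₁₂_apply, (e1 (w1 ha) (w2 hb)).1, (e1 (w1 ha) (w2 hb)).2,
      (e1 (w1 hc) (w2 hd)).1, (e1 (w1 hc) (w2 hd)).2, map_add (ρ g),
      (e1 (w1 (hW₁ g a ha)) (w2 (hW₂ g b hb))).1, (e1 (w1 (hW₁ g a ha)) (w2 (hW₂ g b hb))).2,
      (e1 (w1 (hW₁ g c hc)) (w2 (hW₂ g d hd))).1, (e1 (w1 (hW₁ g c hc)) (w2 (hW₂ g d hd))).2,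
      hS₁i g a ha c hc, hS₂i g b hb d hd]
  · intro x hx h
    obtain ⟨a, ha, b, hb, rfl⟩ := Submodule.mem_sup.1 hx
    have hval : ∀ c ∈ W₁, ∀ d ∈ W₂, S₁ a c + S₂ b d = 0 := fun c hc d hd => by
      have := h _ (Submodule.mem_sup.2 ⟨c, hc, d, hd, rfl⟩)
      simpa only [LinearMap.add_apply, LinearMap.compl₁₂_apply, (e1 (w1 ha) (w2 hb)).1, (e1 (w1 ha) (w2 hb)).2,
        (e1 (w1 hc) (w2 hd)).1, (e1 (w1 hc) (w2 hd)).2] using this
    rw [hS₁n a ha fun c hc => by simpa using hval c hc 0 (zero_mem _),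
      hS₂n b hb fun d hd => by simpa using hval 0 (zero_mem _) d hd, add_zero]
  · intro h2 g x hx
    obtain ⟨a, ha, b, hb, rfl⟩ := Submodule.mem_sup.1 hx
    rw [map_add, ht₁ h2 g a ha, ht₂ h2 g b hb]

theorem dec_alt {X : Submodule F V} (hX : Inv ρ X) (A : LinearMap.BilinForm F V) (hA : ∀ x, A x x = 0)
    (hi : ∀ g, ∀ x ∈ X, ∀ y ∈ X, A (ρ g x) (ρ g y) = A x y) (hn : ∀ x ∈ X, (∀ y ∈ X, A x y = 0) → x = 0) :
    Dec ρ X :=
  ⟨X, ⊥, sup_bot_eq _, disjoint_bot_right, hX, inv_bot, ⟨A, hA, hi, hn⟩,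
    ⟨0, fun _ _ => rfl, fun _ _ _ _ _ => rfl, fun x hx _ => (Submodule.mem_bot F).1 hx⟩,
    fun _ g w hw => by rw [(Submodule.mem_bot F).1 hw, map_zero]⟩

theorem dec_symm {X : Submodule F V} (hX : Inv ρ X) (S : LinearMap.BilinForm F V) (hS : ∀ x y, S x y = S y x)
    (hi : ∀ g, ∀ x ∈ X, ∀ y ∈ X, S (ρ g x) (ρ g y) = S x y) (hn : ∀ x ∈ X, (∀ y ∈ X, S x y = 0) → x = 0)
    (h2 : ringChar F = 2 → ∀ g, ∀ w ∈ X, ρ g w = w) : Dec ρ X :=
  ⟨⊥, X, bot_sup_eq _, disjoint_bot_left, inv_bot, hX,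
    ⟨0, fun _ => rfl, fun _ _ _ _ _ => rfl, fun x hx _ => (Submodule.mem_bot F).1 hx⟩, ⟨S, hS, hi, hn⟩, h2⟩

variable {B : LinearMap.BilinForm F V} (hB : ∀ g x y, B (ρ g x) (ρ g y) = B x y)

theorem left_rad {X : Submodule F V} (hX : Irr ρ X) (C : LinearMap.BilinForm F V)
    (hC : ∀ g, ∀ x ∈ X, ∀ y ∈ X, C (ρ g x) (ρ g y) = C x y) :
    (∀ x ∈ X, (∀ y ∈ X, C x y = 0) → x = 0) ∨ ∀ x ∈ X, ∀ y ∈ X, C x y = 0 := by
  let L : Submodule F V := X ⊓ rperp C.flip X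
  have hL : Inv ρ L := fun g x hx => by
    refine ⟨hX.2.1 g x hx.1, fun y hy => ?_⟩
    show C (ρ g x) y = 0
    rw [← apply_inv_cancel (ρ := ρ) g y, hC g x hx.1 _ (hX.2.1 _ y hy)]
    exact hx.2 _ (hX.2.1 _ y hy)
  rcases hX.2.2 L inf_le_left hL with h | h
  · left; intro x hx hy
    have : x ∈ L := ⟨hx, hy⟩
    rw [h] at this
    exact (Submodule.mem_bot F).1 this
  · right; intro x hx y hy
    exact (h ▸ hx : x ∈ L).2 y hy

include hB in
theorem dec_irr_nd {X : Submodule F V} (hX : Irr ρ X) (hnd : ND B X) : Dec ρ X := by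
  have hleft : ∀ x ∈ X, (∀ y ∈ X, B x y = 0) → x = 0 := nd_flip hnd
  let π : V →ₗ[F] V := X.subtype.comp (X.projectionOnto (rperp B X) (isCompl_rperp hnd))
  have hπid : ∀ v ∈ X, π v = v := fun v hv =>
    congrArg Subtype.val (Submodule.projectionOnto_apply_left (isCompl_rperp hnd) ⟨v, hv⟩)
  have hπmem : ∀ v, π v ∈ X := fun v => (X.projectionOnto _ (isCompl_rperp hnd) v).2
  let C : LinearMap.BilinForm F V := B.compl₁₂ π π
  have hCX : ∀ x ∈ X, ∀ y ∈ X, C x y = B x y := fun x hx y hy => by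
    show B (π x) (π y) = B x y
    rw [hπid x hx, hπid y hy]
  have hCi : ∀ g, ∀ x ∈ X, ∀ y ∈ X, C (ρ g x) (ρ g y) = C x y := fun g x hx y hy => by
    rw [hCX _ (hX.2.1 g x hx) _ (hX.2.1 g y hy), hCX x hx y hy, hB]
  have hCn : ∀ x ∈ X, (∀ y ∈ X, C x y = 0) → x = 0 := fun x hx h =>
    hleft x hx fun y hy => by rw [← hCX x hx y hy]; exact h y hy
  let A : LinearMap.BilinForm F V := B - B.flip
  have hAalt : ∀ x, A x x = 0 := fun x => sub_self _
  have hAi : ∀ g, ∀ x ∈ X, ∀ y ∈ X, A (ρ g x) (ρ g y) = A x y := fun g x _ y _ => by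
    show B _ _ - B _ _ = B x y - B y x
    rw [hB, hB]
  rcases left_rad hX A hAi with hA | hA
  · exact dec_alt hX.2.1 A hAalt hAi hA
  have hsym : ∀ x ∈ X, ∀ y ∈ X, B x y = B y x := fun x hx y hy => sub_eq_zero.1 (hA x hx y hy)
  have hCs : ∀ x y, C x y = C y x := fun x y => hsym _ (hπmem x) _ (hπmem y)
  by_cases h2 : ringChar F = 2
  swap
  · exact dec_symm hX.2.1 C hCs hCi hCn fun h => absurd h h2
  haveI : CharP F 2 := h2 ▸ ringChar.charP F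
  let Q : Submodule F V :=
    { carrier := {x | x ∈ X ∧ B x x = 0}
      zero_mem' := ⟨zero_mem _, by simp⟩
      add_mem' := fun {a b} ha hb => ⟨add_mem ha.1 hb.1, by
        simp only [map_add, LinearMap.add_apply, ha.2, hb.2, hsym b hb.1 a ha.1, zero_add, add_zero]
        exact CharTwo.add_self_eq_zero _⟩
      smul_mem' := fun c a ha => ⟨X.smul_mem c ha.1, by simp [ha.2]⟩ }
  rcases hX.2.2 Q (fun x hx => hx.1) (fun g x hx => ⟨hX.2.1 g x hx.1, by rw [hB]; exact hx.2⟩) with hQ | hQ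
  · refine dec_symm hX.2.1 C hCs hCi hCn fun _ g w hw => ?_
    have hgw := hX.2.1 g w hw
    have : ρ g w - w ∈ Q := ⟨sub_mem hgw hw, by
      simp only [map_sub, LinearMap.sub_apply, hB, hsym _ hw _ hgw, sub_sub_sub_cancel_right]
      linear_combination (B w w - B (ρ g w) w) * CharTwo.two_eq_zero (R := F)⟩
    rw [hQ, Submodule.mem_bot] at this
    exact sub_eq_zero.1 this
  · exact dec_alt hX.2.1 C (fun x => ((hQ ▸ hπmem x : π x ∈ Q)).2) hCi hCn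

theorem dec_hyperbolic {X Y : Submodule F V} (hX : Inv ρ X) (hY : Inv ρ Y) (hd : Disjoint X Y)
    {R : Submodule F V} (hR : IsCompl (X ⊔ Y) R) (hB : ∀ g x y, B (ρ g x) (ρ g y) = B x y)
    (hXY : ∀ y ∈ Y, (∀ x ∈ X, B x y = 0) → y = 0) (hXY' : ∀ x ∈ X, (∀ y ∈ Y, B x y = 0) → x = 0) :
    Dec ρ (X ⊔ Y) := by
  have hc : IsCompl X (Y ⊔ R) := by
    refine ⟨Submodule.disjoint_def.2 fun v hv hv' => ?_, ?_⟩
    · obtain ⟨y, hy, r, hr, rfl⟩ := Submodule.mem_sup.1 hv'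
      have h := Submodule.disjoint_def.1 hR.disjoint r
        (by simpa using sub_mem (Submodule.mem_sup_left hv : y + r ∈ X ⊔ Y) (Submodule.mem_sup_right hy)) hr
      rw [h, add_zero] at hv ⊢
      exact Submodule.disjoint_def.1 hd y hv hy
    · rw [codisjoint_iff, ← sup_assoc, codisjoint_iff.1 hR.codisjoint]
  let π : V →ₗ[F] V := X.subtype.comp (X.projectionOnto (Y ⊔ R) hc)
  let σ : V →ₗ[F] V := LinearMap.id - π
  have e : ∀ {x y : V}, x ∈ X → y ∈ Y → π (x + y) = x ∧ σ (x + y) = y := by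
    intro x y hx hy
    have h1 : π x = x := congrArg Subtype.val (Submodule.projectionOnto_apply_left hc ⟨x, hx⟩)
    have h2 : π y = 0 := by
      have := Submodule.projectionOnto_apply_of_mem_right hc (Submodule.mem_sup_left hy)
      show ((X.projectionOnto (Y ⊔ R) hc y : X) : V) = 0
      rw [this]; rfl
    simp [σ, h1, h2]
  refine dec_alt (inv_sup hX hY) (B.compl₁₂ π σ - (B.compl₁₂ π σ).flip) (fun x => sub_self _) ?_ ?_
  · intro g u hu w hw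
    obtain ⟨a, ha, b, hb, rfl⟩ := Submodule.mem_sup.1 hu
    obtain ⟨c, hc', d, hd', rfl⟩ := Submodule.mem_sup.1 hw
    simp only [LinearMap.sub_apply, LinearMap.flip_apply, LinearMap.compl₁₂_apply, (e ha hb).1, (e ha hb).2,
      (e hc' hd').1, (e hc' hd').2, map_add (ρ g), (e (hX g a ha) (hY g b hb)).1, (e (hX g a ha) (hY g b hb)).2,
      (e (hX g c hc') (hY g d hd')).1, (e (hX g c hc') (hY g d hd')).2, hB]
  · intro u hu h
    obtain ⟨a, ha, b, hb, rfl⟩ := Submodule.mem_sup.1 hu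
    have hval : ∀ c ∈ X, ∀ d ∈ Y, B a d - B c b = 0 := fun c hc' d hd' => by
      have := h _ (Submodule.mem_sup.2 ⟨c, hc', d, hd', rfl⟩)
      simpa only [LinearMap.sub_apply, LinearMap.flip_apply, LinearMap.compl₁₂_apply, (e ha hb).1, (e ha hb).2,
        (e hc' hd').1, (e hc' hd').2] using this
    rw [hXY' a ha fun d hd' => by simpa using hval 0 (zero_mem _) d hd',
      hXY b hb fun c hc' => by simpa using hval c hc' 0 (zero_mem _), add_zero]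

include hB in
/-- A sum of two irreducible totally isotropic subspaces in duality, or a nondegenerate irreducible one, in a
nondegenerate invariant subspace. -/
theorem exists_piece [Finite G] (hG : (Nat.card G : F) ≠ 0) {Z : Submodule F V} (hZ : Inv ρ Z) (hnd : ND B Z)
    (hne : Z ≠ ⊥) : ∃ Z₁, Z₁ ≤ Z ∧ Z₁ ≠ ⊥ ∧ Inv ρ Z₁ ∧ ND B Z₁ ∧ Dec ρ Z₁ := by
  obtain ⟨X, hXZ, hX⟩ := exists_irr_le _ Z rfl hne hZ
  have hzero : ∀ Y : Submodule F V, Irr ρ Y → Y ≤ Z →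
      (∃ Z₁, Z₁ ≤ Z ∧ Z₁ ≠ ⊥ ∧ Inv ρ Z₁ ∧ ND B Z₁ ∧ Dec ρ Z₁) ∨ ∀ a ∈ Y, ∀ b ∈ Y, B a b = 0 := by
    intro Y hY hYZ
    rcases left_rad hY B.flip (fun g x _ y _ => hB g y x) with h | h
    · left
      exact ⟨Y, hYZ, hY.1, hY.2.1, h, dec_irr_nd hB hY h⟩
    · exact Or.inr fun a ha b hb => h b hb a ha
  rcases hzero X hX hXZ with h | hX0
  · exact h
  -- irreducible subspaces outside the orthogonals of `X`
  have hout : ∀ C : LinearMap.BilinForm F V, (∀ g x y, C (ρ g x) (ρ g y) = C x y) → ND C.flip Z →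
      ∃ Y, Irr ρ Y ∧ Y ≤ Z ∧ (∀ y ∈ Y, (∀ x ∈ X, C x y = 0) → y = 0) ∧
        ∀ x ∈ X, (∀ y ∈ Y, C x y = 0) → x = 0 := by
    intro C hC hCnd
    set r := Z ⊓ rperp C X
    have hr : Inv ρ r := inv_inf hZ (inv_rperp hC hX.2.1)
    obtain ⟨K, hK, hKc⟩ := exists_inv_compl hG hr
    have hKZ : K ⊓ Z ≠ ⊥ := by
      intro h0
      have h1 : r ⊔ K ⊓ Z = Z := by
        rw [← sup_inf_assoc_of_le K (inf_le_left : r ≤ Z), codisjoint_iff.1 hKc.codisjoint, top_inf_eq]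
      rw [h0, sup_bot_eq] at h1
      refine hX.1 (eq_bot_iff.2 fun x hx => (Submodule.mem_bot F).2 (hCnd x (hXZ hx) fun y hy => ?_))
      exact (h1.symm ▸ hy : y ∈ r).2 x hx
    obtain ⟨Y, hYK, hY⟩ := exists_irr_le _ (K ⊓ Z) rfl hKZ (inv_inf hK hZ)
    have hright : ∀ y ∈ Y, (∀ x ∈ X, C x y = 0) → y = 0 := fun y hy h =>
      Submodule.disjoint_def.1 hKc.disjoint y ⟨(hYK hy).2, h⟩ (hYK hy).1
    refine ⟨Y, hY, fun y hy => (hYK hy).2, hright, fun x hx h => ?_⟩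
    rcases hX.2.2 (X ⊓ rperp C.flip Y) inf_le_left (inv_inf hX.2.1 (inv_rperp (inv_flip hC) hY.2.1)) with h0 | h0
    · have : x ∈ X ⊓ rperp C.flip Y := ⟨hx, h⟩
      rw [h0] at this
      exact (Submodule.mem_bot F).1 this
    · exact absurd (eq_bot_iff.2 fun y hy => (Submodule.mem_bot F).2
        (hright y hy fun x' hx' => (show x' ∈ X ⊓ rperp C.flip Y by rw [h0]; exact hx').2 y hy)) hY.1
  obtain ⟨Y₁, hY₁, hY₁Z, hY₁r, hY₁r'⟩ := hout B hB (nd_flip hnd)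
  obtain ⟨Y₂, hY₂, hY₂Z, hY₂l, hY₂l'⟩ := hout B.flip (inv_flip hB) hnd
  obtain ⟨Y, hY, hYZ, hr, hl⟩ : ∃ Y, Irr ρ Y ∧ Y ≤ Z ∧ (∃ y ∈ Y, ∃ x ∈ X, B x y ≠ 0) ∧
      ∃ y ∈ Y, ∃ x ∈ X, B y x ≠ 0 := by
    obtain ⟨y₁, hy₁, hy₁0⟩ := Submodule.exists_mem_ne_zero_of_ne_bot hY₁.1
    obtain ⟨y₂, hy₂, hy₂0⟩ := Submodule.exists_mem_ne_zero_of_ne_bot hY₂.1
    have g1 : ∃ y ∈ Y₁, ∃ x ∈ X, B x y ≠ 0 := by
      by_contra h; push Not at h; exact hy₁0 (hY₁r y₁ hy₁ (h y₁ hy₁))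
    have g2 : ∃ y ∈ Y₂, ∃ x ∈ X, B y x ≠ 0 := by
      by_contra h; push Not at h; exact hy₂0 (hY₂l y₂ hy₂ (h y₂ hy₂))
    by_cases c1 : ∃ y ∈ Y₁, ∃ x ∈ X, B y x ≠ 0
    · exact ⟨Y₁, hY₁, hY₁Z, g1, c1⟩
    by_cases c2 : ∃ y ∈ Y₂, ∃ x ∈ X, B x y ≠ 0
    · exact ⟨Y₂, hY₂, hY₂Z, c2, g2⟩
    push Not at c1 c2
    let f₁ : Y₁ →ₗ[F] Module.Dual F X := B.flip.compl₁₂ Y₁.subtype X.subtype
    let f₂ : Y₂ →ₗ[F] Module.Dual F X := B.compl₁₂ Y₂.subtype X.subtype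
    have hf₁ : Function.Injective f₁ := by
      rw [← LinearMap.ker_eq_bot, eq_bot_iff]
      intro a ha
      exact (Submodule.mem_bot F).2 (Subtype.ext
        (hY₁r a a.2 fun x hx => LinearMap.congr_fun (LinearMap.mem_ker.1 ha) ⟨x, hx⟩))
    have hf₂ : Function.Injective f₂ := by
      rw [← LinearMap.ker_eq_bot, eq_bot_iff]
      intro a ha
      exact (Submodule.mem_bot F).2 (Subtype.ext
        (hY₂l a a.2 fun x hx => LinearMap.congr_fun (LinearMap.mem_ker.1 ha) ⟨x, hx⟩))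
    have hf₂s : Function.Surjective f₂ := by
      let h₂ : X →ₗ[F] Module.Dual F Y₂ := B.flip.compl₁₂ X.subtype Y₂.subtype
      have hh : Function.Injective h₂ := by
        rw [← LinearMap.ker_eq_bot, eq_bot_iff]
        intro a ha
        exact (Submodule.mem_bot F).2 (Subtype.ext
          (hY₂l' a a.2 fun y hy => LinearMap.congr_fun (LinearMap.mem_ker.1 ha) ⟨y, hy⟩))
      have a1 := LinearMap.finrank_le_finrank_of_injective hh
      have a2 := LinearMap.finrank_le_finrank_of_injective hf₂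
      rw [Subspace.dual_finrank_eq] at a1 a2
      exact (LinearMap.injective_iff_surjective_of_finrank_eq_finrank
        (by rw [Subspace.dual_finrank_eq]; omega)).1 hf₂
    let e₂ := LinearEquiv.ofBijective f₂ ⟨hf₂, hf₂s⟩
    let θ : Y₁ →ₗ[F] Y₂ := e₂.symm.toLinearMap.comp f₁
    have hθ : ∀ (y : Y₁), ∀ x ∈ X, B (θ y : V) x = B x (y : V) := fun y x hx => by
      have h := LinearMap.congr_fun (e₂.apply_symm_apply (f₁ y)) ⟨x, hx⟩
      exact h
    let j : Y₁ →ₗ[F] V := Y₁.subtype + Y₂.subtype.comp θ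
    have hjx : ∀ (y : Y₁), ∀ x ∈ X, B x (j y) = B x (y : V) ∧ B (j y) x = B x (y : V) := fun y x hx => by
      simp [j, c2 _ (θ y).2 x hx, c1 _ y.2 x hx, hθ y x hx]
    have hjeq : ∀ g (y : Y₁), ρ g (j y) = j ⟨ρ g y, hY₁.2.1 g y y.2⟩ := fun g y => by
      have : (θ ⟨ρ g y, hY₁.2.1 g y y.2⟩ : V) = ρ g (θ y) := by
        refine congrArg Subtype.val (hf₂ (a₂ := ⟨ρ g (θ y), hY₂.2.1 g _ (θ y).2⟩) (LinearMap.ext fun x => ?_))
        show B (θ _ : V) (x : V) = B (ρ g (θ y : V)) (x : V)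
        rw [hθ _ _ x.2, ← apply_inv_cancel (ρ := ρ) g (x : V), hB, hB, hθ y _ (hX.2.1 _ _ x.2)]
      simp [j, this]
    refine ⟨LinearMap.range j, ⟨?_, ?_, ?_⟩, ?_, ?_, ?_⟩
    · obtain ⟨y, hy, x, hx, hne⟩ := g1
      intro h0
      have h1 : j ⟨y, hy⟩ = 0 := (Submodule.mem_bot F).1 (h0 ▸ LinearMap.mem_range_self j _)
      have := (hjx ⟨y, hy⟩ x hx).1
      rw [h1, map_zero] at this
      exact hne this.symm
    · rintro g _ ⟨y, rfl⟩
      exact ⟨_, (hjeq g y).symm⟩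
    · intro L hL hLi
      have hL' : Inv ρ ((Submodule.comap j L).map Y₁.subtype) := by
        rintro g _ ⟨y, hy, rfl⟩
        refine ⟨⟨ρ g y, hY₁.2.1 g y y.2⟩, ?_, rfl⟩
        show j _ ∈ L
        rw [← hjeq]
        exact hLi g _ hy
      rcases hY₁.2.2 _ (Submodule.map_subtype_le _ _) hL' with h | h
      · left
        rw [eq_bot_iff]
        intro v hv
        obtain ⟨y, rfl⟩ := hL hv
        have : y = 0 := by
          have hy : (y : V) ∈ (Submodule.comap j L).map Y₁.subtype := ⟨y, hv, rfl⟩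
          rw [h] at hy
          exact Subtype.ext ((Submodule.mem_bot F).1 hy)
        rw [this, map_zero]; exact zero_mem _
      · right
        refine le_antisymm hL ?_
        rintro _ ⟨y, rfl⟩
        obtain ⟨y', hy', he⟩ := (h.symm ▸ y.2 : (y : V) ∈ (Submodule.comap j L).map Y₁.subtype)
        rw [← Subtype.ext (show (y' : V) = y from he)]
        exact hy'
    · rintro _ ⟨y, rfl⟩
      exact add_mem (hY₁Z y.2) (hY₂Z (θ y).2)
    · obtain ⟨y, hy, x, hx, hne⟩ := g1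
      exact ⟨_, LinearMap.mem_range_self j ⟨y, hy⟩, x, hx, by rw [(hjx ⟨y, hy⟩ x hx).1]; exact hne⟩
    · obtain ⟨y, hy, x, hx, hne⟩ := g1
      exact ⟨_, LinearMap.mem_range_self j ⟨y, hy⟩, x, hx, by rw [(hjx ⟨y, hy⟩ x hx).2]; exact hne⟩
  rcases hzero Y hY hYZ with h | hY0
  · exact h
  have pR : ∀ y ∈ Y, (∀ x ∈ X, B x y = 0) → y = 0 := by
    intro y hy h
    rcases hY.2.2 (Y ⊓ rperp B X) inf_le_left (inv_inf hY.2.1 (inv_rperp hB hX.2.1)) with h0 | h0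
    · have : y ∈ Y ⊓ rperp B X := ⟨hy, h⟩
      rw [h0] at this
      exact (Submodule.mem_bot F).1 this
    · obtain ⟨y', hy', x, hx, hne⟩ := hr
      exact absurd ((show y' ∈ Y ⊓ rperp B X by rw [h0]; exact hy').2 x hx) hne
  have pR' : ∀ x ∈ X, (∀ y ∈ Y, B y x = 0) → x = 0 := by
    intro x hx h
    rcases hX.2.2 (X ⊓ rperp B Y) inf_le_left (inv_inf hX.2.1 (inv_rperp hB hY.2.1)) with h0 | h0
    · have : x ∈ X ⊓ rperp B Y := ⟨hx, h⟩
      rw [h0] at this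
      exact (Submodule.mem_bot F).1 this
    · obtain ⟨y, hy, x', hx', hne⟩ := hl
      exact absurd ((show x' ∈ X ⊓ rperp B Y by rw [h0]; exact hx').2 y hy) hne
  have pL : ∀ x ∈ X, (∀ y ∈ Y, B x y = 0) → x = 0 := by
    intro x hx h
    rcases hX.2.2 (X ⊓ rperp B.flip Y) inf_le_left (inv_inf hX.2.1 (inv_rperp (inv_flip hB) hY.2.1)) with h0 | h0
    · have : x ∈ X ⊓ rperp B.flip Y := ⟨hx, h⟩
      rw [h0] at this
      exact (Submodule.mem_bot F).1 this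
    · obtain ⟨y, hy, x', hx', hne⟩ := hr
      exact absurd ((show x' ∈ X ⊓ rperp B.flip Y by rw [h0]; exact hx').2 y hy) hne
  have hd : Disjoint X Y := Submodule.disjoint_def.2 fun v hv hv' => pR v hv' fun x hx => hX0 x hx v hv
  have hndXY : ND B (X ⊔ Y) := by
    intro v hv h
    obtain ⟨a, ha, b, hb, rfl⟩ := Submodule.mem_sup.1 hv
    have hb0 : b = 0 := pR b hb fun x hx => by
      have := h x (Submodule.mem_sup_left hx)
      rwa [map_add, hX0 x hx a ha, zero_add] at this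
    subst hb0
    rw [add_zero] at h ⊢
    exact pR' a ha fun y hy => h y (Submodule.mem_sup_right hy)
  exact ⟨X ⊔ Y, sup_le hXZ hYZ, fun h => hX.1 (eq_bot_iff.2 (h ▸ le_sup_left)), inv_sup hX.2.1 hY.2.1, hndXY,
    dec_hyperbolic hX.2.1 hY.2.1 hd (isCompl_rperp hndXY) hB pR pL⟩

include hB in
theorem dec_of_nd [Finite G] (hG : (Nat.card G : F) ≠ 0) : ∀ (n : ℕ) (Z : Submodule F V), finrank F Z = n →
    Inv ρ Z → ND B Z → Dec ρ Z := by
  intro n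
  induction n using Nat.strong_induction_on with
  | _ n ih =>
    intro Z hn hZ hnd
    by_cases hne : Z = ⊥
    · subst hne
      exact dec_alt inv_bot 0 (fun _ => rfl) (fun _ _ _ _ _ => rfl) fun x hx _ => (Submodule.mem_bot F).1 hx
    obtain ⟨Z₁, hle, hne₁, hinv₁, hnd₁, hdec₁⟩ := exists_piece hB hG hZ hnd hne
    have hc := isCompl_rperp hnd₁
    set Z₂ := Z ⊓ rperp B Z₁
    have hsup : Z₁ ⊔ Z₂ = Z := by
      rw [show Z₂ = rperp B Z₁ ⊓ Z from inf_comm _ _, ← sup_inf_assoc_of_le _ hle,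
        codisjoint_iff.1 hc.codisjoint, top_inf_eq]
    have hlt : finrank F Z₂ < n := by
      rw [← hn]
      refine Submodule.finrank_lt_finrank_of_lt (lt_of_le_of_ne inf_le_left fun h => hne₁ ?_)
      exact hc.disjoint.eq_bot_of_le (hle.trans (h ▸ inf_le_right))
    have hnd₂ : ND B Z₂ := by
      intro z hz h
      refine hnd z hz.1 fun y hy => ?_
      obtain ⟨a, ha, b, hb, rfl⟩ := Submodule.mem_sup.1 (hsup.symm ▸ hy)
      rw [map_add, LinearMap.add_apply, hz.2 a ha, h b hb, add_zero]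
    rw [← hsup]
    refine combine hdec₁ (ih _ hlt Z₂ rfl (inv_inf hZ (inv_rperp hB hinv₁)) hnd₂)
      (Z₁.subtype.comp (Z₁.projectionOnto (rperp B Z₁) hc)) (fun x hx => ?_) fun x hx => ?_
    · exact congrArg Subtype.val (Submodule.projectionOnto_apply_left hc ⟨x, hx⟩)
    · show ((Z₁.projectionOnto (rperp B Z₁) hc x : Z₁) : V) = 0
      rw [Submodule.projectionOnto_apply_of_mem_right hc hx.2]
      rfl

end Cfsg.Agent.SelfDualSplit
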